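import Cfsg.Agent.Omega.EK3.Rank

/-!
# THEOREM GI (helper23, #22946 (1)-(5); referee helper608 #23018)

Pure group theory, `K`-free, any index type, no swap, no transitivity. `D`, `O ≤ D` (`= O_2(D)`), `Y i` (`= C_G(z_l : l ≠ i)`),
`N i` (`= <z_i^{Y_i}>`), `Q i := O ⊓ C(N i)`, `E i` (`= ` the `i`-th block group, `Y i = ⟨D, E i⟩`), `U i j`
(`= <z_j^{C_{Y_j}(V_i)}> ≤ N j`, invariant under `E i`).

* `Dat.comm`, `Dat.ss_eq` : (2) `Good i j` gives `[N i, N j] = 1`, `SS i j = AA (Q i) ∩ AA (Q j)`;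
* `Dat.exists_bad` : (3) not all pairs are good;
* `Dat.good_of_norm`, `good_of_cent`, `good_of_fail` : (4) (a), (b), (c);
* `exact_cu` : `C_A(U)` is exact on `N`;
* **`Dat.main`** : (5);
* `Dat.half`, `exact_half` : the half-good case (helper992 #23486 (4));
* `exact_big` : (6) `C_A(U)` exact on `N` is exact on `M ≥ N` if `C_A(N)` centralises `M`.
-/

set_option autoImplicit false
set_option linter.unusedSectionVars false

namespace Cfsg.Agent.Omega.GI

open Subgroup Cfsg Cfsg.Agent.ZN Cfsg.Agent.Omega.MinPar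
open Cfsg.Agent.Omega.NO3S.EThree Cfsg.Agent.Omega.NO3S.EThree.ExactA
open Cfsg.Agent.ZN.ChoiceBase (AA mm mm_eq mem_AA_iff AA_nonempty card_le_mm cj mem_cj cj_mem_AA cj_inf cj_mono cj_centralizer
  cj_eq_of_mem_normalizer mem_normalizer_of_cj_le card_cj)
open Cfsg.Agent.Omega.NoFF.Basic (comm_symm comm_mono)
open Cfsg.Agent.Omega.NO3S.ML (card_mul_relIndex card_sup_mul_of_comm)
open Cfsg.Agent.Omega.EK3.Rank

universe u v

variable {G : Type u} [Group G] {ι : Type v}

section basic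

theorem cj_sup' (g : G) (H K : Subgroup G) : cj g (H ⊔ K) = cj g H ⊔ cj g K := Subgroup.map_sup _ _ _

/-- `H` permutes `SS`. -/
def Inv (H : Subgroup G) (SS : Set (Subgroup G)) : Prop := ∀ g ∈ H, ∀ X ∈ SS, cj g X ∈ SS

theorem Inv.mono {H K : Subgroup G} {SS : Set (Subgroup G)} (h : Inv K SS) (hH : H ≤ K) : Inv H SS :=
  fun g hg => h g (hH hg)

theorem Inv.sup {H K : Subgroup G} {SS : Set (Subgroup G)} (h1 : Inv H SS) (h2 : Inv K SS) : Inv (H ⊔ K) SS := by
  have key : ∀ g ∈ H ⊔ K, (∀ X ∈ SS, cj g X ∈ SS) ∧ (∀ X ∈ SS, cj g⁻¹ X ∈ SS) := by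
    intro g hg
    rw [Subgroup.sup_eq_closure] at hg
    induction hg using Subgroup.closure_induction with
    | mem x hx =>
      rcases hx with hx | hx
      · exact ⟨h1 x hx, h1 _ (H.inv_mem hx)⟩
      · exact ⟨h2 x hx, h2 _ (K.inv_mem hx)⟩
    | one => simp only [inv_one]; exact ⟨fun X hX => by rwa [ChoiceBase.cj_one], fun X hX => by rwa [ChoiceBase.cj_one]⟩
    | mul x y _ _ ix iy =>
      refine ⟨fun X hX => ?_, fun X hX => ?_⟩
      · rw [← ChoiceBase.cj_cj]; exact ix.1 _ (iy.1 _ hX)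
      · rw [mul_inv_rev, ← ChoiceBase.cj_cj]; exact iy.2 _ (ix.2 _ hX)
    | inv x _ ix => rw [inv_inv]; exact ⟨ix.2, ix.1⟩
  exact fun g hg => (key g hg).1

theorem Inv.le_normalizer [Finite G] {H : Subgroup G} {SS : Set (Subgroup G)} (h : Inv H SS) :
    H ≤ normalizer ((sSup SS : Subgroup G) : Set G) := by
  intro g hg
  refine mem_normalizer_of_cj_le ?_
  rw [ChoiceBase.cj_le_iff]
  refine sSup_le fun X hX => ?_
  rw [← ChoiceBase.cj_le_iff]
  exact le_sSup (h g hg X hX)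

/-- `N ∩ H = N ∩ K` gives equal indices -/
theorem relIndex_congr {H K N : Subgroup G} (h : N ⊓ H = N ⊓ K) : H.relIndex N = K.relIndex N := by
  rw [← Subgroup.inf_relIndex_left, h, Subgroup.inf_relIndex_left]

variable [Finite G]

/-- `|B U : H ∩ B U| = |B : H ∩ B|` for `U ≤ H`, `[B, U] = 1`. -/
theorem relIndex_sup_of_comm {H B U : Subgroup G} (hU : U ≤ H) (hc : B ≤ centralizer (U : Set G)) :
    H.relIndex (B ⊔ U) = H.relIndex B := by
  have hc' : ∀ b ∈ B, ∀ u ∈ U, b * u = u * b := fun b hb x hx => (mem_centralizer_iff.1 (hc hb) x hx).symm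
  have e : (B ⊔ U) ⊓ H = (B ⊓ H) ⊔ U := by
    refine le_antisymm ?_ (le_inf (sup_le_sup_right inf_le_left _) (sup_le (inf_le_right) hU))
    rintro x ⟨hx, hxH⟩
    have hx' : x ∈ ((B ⊔ U : Subgroup G) : Set G) := hx
    rw [Subgroup.coe_mul_of_right_le_normalizer_left B U ((comm_symm hc).trans (centralizer_le_normalizer _)),
      Set.mem_mul] at hx'
    obtain ⟨b, hb, w, hw, rfl⟩ := hx'
    refine Subgroup.mul_mem_sup ⟨hb, ?_⟩ hw
    have e2 : b = b * w * w⁻¹ := by group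
    rw [e2]
    exact H.mul_mem hxH (H.inv_mem (hU hw))
  have h1 := card_sup_mul_of_comm hc'
  have h2 := card_sup_mul_of_comm (K := B ⊓ H) (L := U) fun b hb => hc' b hb.1
  have e3 : B ⊓ H ⊓ U = B ⊓ U := by
    refine le_antisymm (inf_le_inf_right _ inf_le_left) (le_inf (le_inf inf_le_left (inf_le_right.trans hU)) inf_le_right)
  rw [e3] at h2
  have h3 : Nat.card ((B ⊓ H) ⊔ U : Subgroup G) * H.relIndex (B ⊔ U) = Nat.card (B ⊔ U : Subgroup G) := by
    rw [← e, ← Subgroup.inf_relIndex_left]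
    exact card_mul_relIndex inf_le_left
  have h4 : Nat.card (B ⊓ H : Subgroup G) * H.relIndex B = Nat.card B := by
    rw [← Subgroup.inf_relIndex_left]
    exact card_mul_relIndex inf_le_left
  have p1 : 0 < Nat.card (B ⊓ U : Subgroup G) := Nat.card_pos
  have p2 : 0 < Nat.card U := Nat.card_pos
  have p3 : 0 < Nat.card (B ⊓ H : Subgroup G) := Nat.card_pos
  have h5 : (Nat.card (B ⊓ H : Subgroup G) * Nat.card U) * H.relIndex (B ⊔ U) =
      (Nat.card (B ⊓ H : Subgroup G) * Nat.card U) * H.relIndex B := by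
    calc _ = (Nat.card ((B ⊓ H) ⊔ U : Subgroup G) * H.relIndex (B ⊔ U)) * Nat.card (B ⊓ U : Subgroup G) := by
          rw [← h2]; ring
      _ = Nat.card B * Nat.card U := by rw [h3, h1]
      _ = _ := by rw [← h4]; ring
  exact Nat.eq_of_mul_eq_mul_left (Nat.mul_pos p3 p2) h5

/-- **(5)** `A ∈ AA(O)`, `U ≤ N` with `|A : C_A(U)| ≤ |U : C_U(A)|`: `C_A(U) U ∈ AA(O)` and `C_A(U)` is exact on `N`. -/
theorem exact_cu {O N U A : Subgroup G} (hN : IsElementaryAbelian 2 N) (hNO : N ≤ O) (hno : NoOn O N) (hU : U ≤ N)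
    (hA : A ∈ AA O)
    (hnoU : (centralizer (U : Set G)).relIndex A ≤ (centralizer (A : Set G)).relIndex U) :
    (A ⊓ centralizer (U : Set G)) ⊔ U ∈ AA O ∧
      (centralizer (N : Set G)).relIndex (A ⊓ centralizer (U : Set G) : Subgroup G) =
        (centralizer ((A ⊓ centralizer (U : Set G) : Subgroup G) : Set G)).relIndex N ∧
      N ⊓ centralizer ((A ⊓ centralizer (U : Set G) : Subgroup G) : Set G) ≤ (A ⊓ centralizer (U : Set G)) ⊔ U := by
  have h1 := (swp (eab_mono hN hU) (hU.trans hNO) hA hnoU).2.2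
  refine ⟨h1, ?_, ?_⟩
  · have h2 := (exch hN hNO hno h1).1
    rw [relIndex_sup_of_comm (hU.trans (eab_iff.1 hN).1) inf_le_right] at h2
    rw [h2]
    refine relIndex_congr (le_antisymm (inf_le_inf_left _ (centralizer_le
      (SetLike.coe_subset_coe.2 le_sup_left))) (le_inf inf_le_left ?_))
    refine comm_symm (sup_le (comm_symm inf_le_right) ?_)
    exact hU.trans (comm_symm (inf_le_left.trans (eab_iff.1 hN).1))
  · refine le_trans (le_inf inf_le_left ?_) (exch hN hNO hno h1).2.1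
    refine comm_symm (sup_le (comm_symm inf_le_right) ?_)
    exact hU.trans (comm_symm (inf_le_left.trans (eab_iff.1 hN).1))

end basic

/-- The data of THEOREM GI. -/
structure Dat (O D : Subgroup G) (Y E N : ι → Subgroup G) (U : ι → ι → Subgroup G) : Prop where
  OD : O ≤ D
  DO : D ≤ normalizer (O : Set G)
  DY : ∀ i, D ≤ Y i
  YE : ∀ i, Y i ≤ D ⊔ E i
  EY : ∀ i, E i ≤ Y i
  eab : ∀ i, IsElementaryAbelian 2 (N i)
  NO : ∀ i, N i ≤ O
  YN : ∀ i, Y i ≤ normalizer (N i : Set G)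
  QY : ∀ i, Y i ≤ normalizer ((O ⊓ centralizer (N i : Set G) : Subgroup G) : Set G)
  core : ∀ i, ∀ R : Subgroup G, R ≤ O → Y i ≤ normalizer (R : Set G) → R ≤ centralizer (N i : Set G)
  no : ∀ i, NoOn O (N i)
  UN : ∀ i j, i ≠ j → U i j ≤ N j
  EU : ∀ i j, i ≠ j → E i ≤ normalizer (U i j : Set G)
  noU : ∀ i j, i ≠ j → ∀ A ∈ AA (O ⊓ centralizer (N i : Set G)),
    (centralizer (U i j : Set G)).relIndex A ≤ (centralizer (A : Set G)).relIndex (U i j)
  nonloc : ∀ R : Subgroup G, R ≤ O → (∀ i, Y i ≤ normalizer (R : Set G)) → R = ⊥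
  ne : ∃ i, N i ≠ ⊥

/-- `SS_ij = {C_A(N_j) N_j : A ∈ AA(Q_i)}` -/
def SS (O : Subgroup G) (N : ι → Subgroup G) (i j : ι) : Set (Subgroup G) :=
  {X | ∃ A ∈ AA (O ⊓ centralizer (N i : Set G)), X = (A ⊓ centralizer (N j : Set G)) ⊔ N j}

/-- `GOOD` : `SS_ij` is `Y_i`-invariant. -/
def Good (O : Subgroup G) (Y N : ι → Subgroup G) (i j : ι) : Prop := Inv (Y i) (SS O N i j)

namespace Dat

variable [Finite G] {O D : Subgroup G} {Y E N : ι → Subgroup G} {U : ι → ι → Subgroup G} (h : Dat O D Y E N U)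
include h

theorem aa_cj {i : ι} {g : G} (hg : g ∈ Y i) {A : Subgroup G} (hA : A ∈ AA (O ⊓ centralizer (N i : Set G))) :
    cj g A ∈ AA (O ⊓ centralizer (N i : Set G)) := by
  have h1 := cj_mem_AA g hA
  rwa [cj_eq_of_mem_normalizer (h.QY i hg)] at h1

theorem mem_O {i : ι} {A : Subgroup G} (hA : A ∈ AA (O ⊓ centralizer (N i : Set G))) : A ∈ AA O :=
  mem_AA_of_inf (h.eab i) (h.NO i) (h.no i) hA

theorem ss_mem {i j : ι} {X : Subgroup G} (hX : X ∈ SS O N i j) : X ∈ AA (O ⊓ centralizer (N j : Set G)) := by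
  obtain ⟨A, hA, rfl⟩ := hX
  exact exch_inf (h.eab j) (h.NO j) (h.no j) (h.mem_O hA)

theorem ss_ne (i j : ι) : ∃ X, X ∈ SS O N i j := by
  obtain ⟨A, hA⟩ := AA_nonempty (O ⊓ centralizer (N i : Set G))
  exact ⟨_, A, hA, rfl⟩

/-- (2) -/
theorem ss_cent {i j : ι} (hg : Good O Y N i j) {X : Subgroup G} (hX : X ∈ SS O N i j) :
    X ≤ centralizer (N i : Set G) := by
  have h1 : sSup (SS O N i j) ≤ O := sSup_le fun Z hZ => (h.ss_mem hZ).2.1.trans inf_le_left
  exact (le_sSup hX).trans (h.core i _ h1 (Inv.le_normalizer hg))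

/-- (2) `[N i, N j] = 1` -/
theorem comm {i j : ι} (hg : Good O Y N i j) : N j ≤ centralizer (N i : Set G) := by
  obtain ⟨X, hX⟩ := h.ss_ne i j
  refine le_trans ?_ (h.ss_cent hg hX)
  obtain ⟨A, hA, rfl⟩ := hX
  exact le_sup_right

/-- (2) `SS i j = AA (Q i) ∩ AA (Q j)` -/
theorem ss_eq {i j : ι} (hg : Good O Y N i j) :
    SS O N i j = AA (O ⊓ centralizer (N i : Set G)) ∩ AA (O ⊓ centralizer (N j : Set G)) := by
  ext X
  constructor
  · intro hX
    have h1 := h.ss_mem hX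
    exact ⟨mem_inf_of_mem_AA (h.eab i) (h.NO i) (h.no i) (h.mem_O h1) (h.ss_cent hg hX), h1⟩
  · rintro ⟨hX, hX'⟩
    refine ⟨X, hX, ?_⟩
    rw [inf_eq_left.2 (hX'.2.1.trans inf_le_right)]
    exact (sup_eq_left.2 (le_of_mem_inf (h.eab j) (h.NO j) (h.no j) hX')).symm

/-- (3) -/
theorem exists_common (hg : ∀ i j, i ≠ j → Good O Y N i j) (s : Finset ι) :
    ∃ A ∈ AA O, ∀ l ∈ s, A ∈ AA (O ⊓ centralizer (N l : Set G)) := by
  classical
  induction s using Finset.induction_on with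
  | empty =>
    obtain ⟨A, hA⟩ := AA_nonempty O
    exact ⟨A, hA, by simp⟩
  | insert l s hl ih =>
    obtain ⟨A, hA, hs⟩ := ih
    have h1 := exch_inf (h.eab l) (h.NO l) (h.no l) hA
    refine ⟨_, h.mem_O h1, fun m hm => ?_⟩
    rcases Finset.mem_insert.1 hm with rfl | hm
    · exact h1
    · have hne : m ≠ l := fun e => hl (e ▸ hm)
      refine mem_inf_of_mem_AA (h.eab m) (h.NO m) (h.no m) (h.mem_O h1) (sup_le ?_ (h.comm (hg m l hne)))
      exact inf_le_left.trans ((hs m hm).2.1.trans inf_le_right)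

/-- **(3) Not all pairs are good.** -/
theorem exists_bad [Finite ι] : ∃ i j, i ≠ j ∧ ¬ Good O Y N i j := by
  by_contra hcon
  push Not at hcon
  have := Fintype.ofFinite ι
  obtain ⟨A, hA, hs⟩ := h.exists_common hcon Finset.univ
  have hR : sSup {A : Subgroup G | ∀ l, A ∈ AA (O ⊓ centralizer (N l : Set G))} = ⊥ := by
    obtain ⟨i₀, _⟩ := h.ne
    refine h.nonloc _ (sSup_le fun B hB => (hB i₀).2.1.trans inf_le_left) fun i => Inv.le_normalizer fun g hg B hB => ?_
    intro j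
    by_cases hij : i = j
    · subst hij; exact h.aa_cj hg (hB i)
    · have h1 : B ∈ SS O N i j := by
        rw [h.ss_eq (hcon i j hij)]; exact ⟨hB i, hB j⟩
      have h2 := hcon i j hij g hg B h1
      rw [h.ss_eq (hcon i j hij)] at h2
      exact h2.2
  obtain ⟨i, hi⟩ := h.ne
  refine hi (le_bot_iff.1 ?_)
  rw [← hR]
  exact (le_of_mem_inf (h.eab i) (h.NO i) (h.no i) (hs i (Finset.mem_univ _))).trans
    (le_sSup fun l => hs l (Finset.mem_univ _))

/-- (4) `D` always permutes `SS i j`. -/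
theorem inv_D (i j : ι) : Inv D (SS O N i j) := by
  rintro g hg _ ⟨A, hA, rfl⟩
  refine ⟨cj g A, h.aa_cj (h.DY i hg) hA, ?_⟩
  rw [cj_sup', cj_inf, cj_centralizer, cj_eq_of_mem_normalizer (h.YN j (h.DY j hg))]

theorem good_of_E {i j : ι} (hE : Inv (E i) (SS O N i j)) : Good O Y N i j :=
  ((h.inv_D i j).sup hE).mono (h.YE i)

/-- (4) (a) -/
theorem good_of_norm {i j : ι} (hE : E i ≤ normalizer (N j : Set G)) : Good O Y N i j := by
  refine h.good_of_E ?_
  rintro g hg _ ⟨A, hA, rfl⟩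
  refine ⟨cj g A, h.aa_cj (h.EY i hg) hA, ?_⟩
  rw [cj_sup', cj_inf, cj_centralizer, cj_eq_of_mem_normalizer (hE hg)]

/-- (4) (b) -/
theorem good_of_cent {i j : ι}
    (hc : ∀ A ∈ AA (O ⊓ centralizer (N i : Set G)), A ≤ centralizer (N j : Set G)) : Good O Y N i j := by
  have key : ∀ A ∈ AA (O ⊓ centralizer (N i : Set G)), (A ⊓ centralizer (N j : Set G)) ⊔ N j = A := by
    intro A hA
    rw [inf_eq_left.2 (hc A hA)]
    exact sup_eq_left.2 (le_of_mem_inf (h.eab j) (h.NO j) (h.no j)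
      (mem_inf_of_mem_AA (h.eab j) (h.NO j) (h.no j) (h.mem_O hA) (hc A hA)))
  rintro g hg _ ⟨A, hA, rfl⟩
  exact ⟨cj g A, h.aa_cj hg hA, by rw [key A hA, key _ (h.aa_cj hg hA)]⟩

/-- (4) (c) -/
theorem good_of_fail {i j : ι} (hij : i ≠ j)
    (hf : ∀ A ∈ AA (O ⊓ centralizer (N i : Set G)), A ⊓ centralizer (U i j : Set G) ≤ centralizer (N j : Set G)) :
    Good O Y N i j := by
  have hUN := h.UN i j hij
  have key : ∀ A ∈ AA (O ⊓ centralizer (N i : Set G)),
      (A ⊓ centralizer (N j : Set G)) ⊔ N j = (A ⊓ centralizer (U i j : Set G)) ⊔ U i j := by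
    intro A hA
    have e : A ⊓ centralizer (U i j : Set G) = A ⊓ centralizer (N j : Set G) :=
      le_antisymm (le_inf inf_le_left (hf A hA)) (inf_le_inf_left _ (centralizer_le hUN))
    have h1 := (exact_cu (h.eab j) (h.NO j) (h.no j) hUN (h.mem_O hA) (h.noU i j hij A hA)).1
    have h2 := (exch (h.eab j) (h.NO j) (h.no j) (h.mem_O hA)).2.2
    rw [e] at h1 ⊢
    refine (Subgroup.eq_of_le_of_card_ge (sup_le_sup_left hUN _) ?_).symm
    rw [← mm_eq h1, ← mm_eq h2]
  refine h.good_of_E ?_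
  rintro g hg _ ⟨A, hA, rfl⟩
  have hA' := h.aa_cj (h.EY i hg) hA
  refine ⟨cj g A, hA', ?_⟩
  rw [key A hA, key _ hA', cj_sup', cj_inf, cj_centralizer, cj_eq_of_mem_normalizer (h.EU i j hij hg)]

/-- **THEOREM GI (5).** -/
theorem main [Finite ι] : ∃ i j, i ≠ j ∧ ¬ Good O Y N i j ∧ ¬ E i ≤ normalizer (N j : Set G) ∧
    (∃ A ∈ AA (O ⊓ centralizer (N i : Set G)), ¬ A ≤ centralizer (N j : Set G)) ∧
    ∃ A ∈ AA (O ⊓ centralizer (N i : Set G)), A ∈ AA O ∧
      ¬ A ⊓ centralizer (U i j : Set G) ≤ centralizer (N j : Set G) ∧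
      (A ⊓ centralizer (U i j : Set G)) ⊔ U i j ∈ AA O ∧
      (centralizer (N j : Set G)).relIndex (A ⊓ centralizer (U i j : Set G) : Subgroup G) =
        (centralizer ((A ⊓ centralizer (U i j : Set G) : Subgroup G) : Set G)).relIndex (N j) := by
  obtain ⟨i, j, hij, hb⟩ := h.exists_bad
  refine ⟨i, j, hij, hb, fun hn => hb (h.good_of_norm hn), ?_, ?_⟩
  · by_contra hcon
    push Not at hcon
    exact hb (h.good_of_cent hcon)
  · by_contra hcon
    push Not at hcon
    refine hb (h.good_of_fail hij fun A hA => ?_)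
    by_contra hmov
    have h1 := exact_cu (h.eab j) (h.NO j) (h.no j) (h.UN i j hij) (h.mem_O hA) (h.noU i j hij A hA)
    exact hcon A hA (h.mem_O hA) hmov h1.1 h1.2.1

/-- `Good j i` (`GOOD` on the other side): `A ∈ AA(Q i)`: `C_A(N_j) N_j ∈ AA(Q i) ∩ AA(Q j)` contains every
`Y_j`-conjugate of `N i` (992's THEOREM F (4)). -/
theorem half {i j : ι} (hg : Good O Y N j i) {A : Subgroup G} (hA : A ∈ AA (O ⊓ centralizer (N i : Set G))) :
    (A ⊓ centralizer (N j : Set G)) ⊔ N j ∈ AA (O ⊓ centralizer (N i : Set G)) ∧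
      (A ⊓ centralizer (N j : Set G)) ⊔ N j ∈ AA (O ⊓ centralizer (N j : Set G)) ∧
      ∀ g ∈ Y j, cj g (N i) ≤ (A ⊓ centralizer (N j : Set G)) ⊔ N j := by
  have h1 := h.ss_mem (⟨A, hA, rfl⟩ : _ ∈ SS O N i j)
  have h2 : (A ⊓ centralizer (N j : Set G)) ⊔ N j ∈ AA (O ⊓ centralizer (N i : Set G)) := by
    refine mem_inf_of_mem_AA (h.eab i) (h.NO i) (h.no i) (h.mem_O h1) (sup_le ?_ ?_)
    · exact inf_le_left.trans (hA.2.1.trans inf_le_right)
    · exact comm_symm (h.comm hg)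
  refine ⟨h2, h1, fun g hgY => ?_⟩
  have h3 : (A ⊓ centralizer (N j : Set G)) ⊔ N j ∈ SS O N j i := by
    rw [h.ss_eq hg]; exact ⟨h1, h2⟩
  have h4 := hg g⁻¹ ((Y j).inv_mem hgY) _ h3
  rw [h.ss_eq hg] at h4
  rw [ChoiceBase.cj_le_iff]
  exact le_of_mem_inf (h.eab i) (h.NO i) (h.no i) h4.2

end Dat

section big

variable [Finite G]

/-- **(6)** `A ∈ AA(O)`, `N ≤ M ≤ O`, `M` elementary abelian, `C_A(N)` centralises `M`, `B ≤ A` exact on `N`:
`M = N C_M(A)`, and `B` is exact on `M`. -/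
theorem exact_big {O N M A B : Subgroup G} (hN : IsElementaryAbelian 2 N) (hno : NoOn O N)
    (hNM : N ≤ M) (hM : IsElementaryAbelian 2 M) (hMO : M ≤ O) (hA : A ∈ AA O)
    (hc : A ⊓ centralizer (N : Set G) ≤ centralizer (M : Set G)) (hB : B ≤ A)
    (hex : (centralizer (N : Set G)).relIndex B = (centralizer (B : Set G)).relIndex N) :
    M = N ⊔ (M ⊓ centralizer (A : Set G)) ∧
      (centralizer (M : Set G)).relIndex B = (centralizer (B : Set G)).relIndex M := by
  have hNO := hNM.trans hMO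
  have e1 : A ⊓ centralizer (N : Set G) = A ⊓ centralizer (M : Set G) :=
    le_antisymm (le_inf inf_le_left hc) (inf_le_inf_left _ (centralizer_le hNM))
  have e2 : B ⊓ centralizer (N : Set G) = B ⊓ centralizer (M : Set G) := by
    refine le_antisymm (le_inf inf_le_left ?_) (inf_le_inf_left _ (centralizer_le hNM))
    exact (inf_le_inf_right _ hB).trans hc
  have h1 : (centralizer (A : Set G)).relIndex M ≤ (centralizer (M : Set G)).relIndex A := le_of_mem hM hMO hA
  have h2 : (centralizer (M : Set G)).relIndex A = (centralizer (N : Set G)).relIndex A := (relIndex_congr e1).symm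
  have h3 := (exch hN hNO hno hA).1
  -- `N C_M(A) = M`
  have hcm : M ≤ centralizer (N : Set G) := hNM.trans (eab_iff.1 hM).1 |> fun e => comm_symm e
  have hs : M = N ⊔ (M ⊓ centralizer (A : Set G)) := by
    refine (Subgroup.eq_of_le_of_card_ge (sup_le hNM inf_le_left) ?_).symm
    have h4 : Nat.card (N ⊔ (M ⊓ centralizer (A : Set G)) : Subgroup G) *
        Nat.card (N ⊓ (M ⊓ centralizer (A : Set G)) : Subgroup G) =
        Nat.card N * Nat.card (M ⊓ centralizer (A : Set G) : Subgroup G) :=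
      card_sup_mul_of_comm fun a ha b hb => (mem_centralizer_iff.1 (hcm hb.1) a ha)
    have e5 : N ⊓ (M ⊓ centralizer (A : Set G)) = N ⊓ centralizer (A : Set G) := by
      rw [← inf_assoc, inf_eq_left.2 hNM]
    rw [e5] at h4
    have h6 : Nat.card (N ⊓ centralizer (A : Set G) : Subgroup G) * (centralizer (A : Set G)).relIndex N = Nat.card N := by
      rw [← Subgroup.inf_relIndex_left]
      exact card_mul_relIndex inf_le_left
    have h7 : Nat.card (M ⊓ centralizer (A : Set G) : Subgroup G) * (centralizer (A : Set G)).relIndex M = Nat.card M := by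
      rw [← Subgroup.inf_relIndex_left]
      exact card_mul_relIndex inf_le_left
    have p : 0 < Nat.card (N ⊓ centralizer (A : Set G) : Subgroup G) := Nat.card_pos
    have h8 : Nat.card (N ⊔ (M ⊓ centralizer (A : Set G)) : Subgroup G) =
        (centralizer (A : Set G)).relIndex N * Nat.card (M ⊓ centralizer (A : Set G) : Subgroup G) := by
      refine Nat.eq_of_mul_eq_mul_right p ?_
      rw [h4, ← h6]; ring
    rw [h8, ← h7, mul_comm]
    exact Nat.mul_le_mul_right _ ((h1.trans h2.le).trans h3.le)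
  refine ⟨hs, ?_⟩
  rw [← relIndex_congr e2, hex]
  -- `|M : C_M(B)| = |N : C_N(B)|`
  have hs' : M = N ⊔ (M ⊓ centralizer (B : Set G)) :=
    le_antisymm (hs.le.trans (sup_le_sup_left (inf_le_inf_left _ (centralizer_le hB)) _)) (sup_le hNM inf_le_left)
  have h9 : (centralizer (B : Set G)).relIndex (N ⊔ (M ⊓ centralizer (B : Set G)) : Subgroup G) =
      (centralizer (B : Set G)).relIndex N :=
    relIndex_sup_of_comm inf_le_right (comm_symm (inf_le_left.trans hcm))
  rw [← hs'] at h9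
  exact h9.symm

/-- the half case: `M ≤ C_A(N) N` -/
theorem exact_half {O N M A B : Subgroup G} (hN : IsElementaryAbelian 2 N) (hNO : N ≤ O) (hno : NoOn O N)
    (hNM : N ≤ M) (hA : A ∈ AA O) (hM : M ≤ (A ⊓ centralizer (N : Set G)) ⊔ N) (hB : B ≤ A)
    (hex : (centralizer (N : Set G)).relIndex B = (centralizer (B : Set G)).relIndex N) :
    M = N ⊔ (M ⊓ centralizer (A : Set G)) ∧
      (centralizer (M : Set G)).relIndex B = (centralizer (B : Set G)).relIndex M := by
  have h1 := (exch hN hNO hno hA).2.2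
  refine exact_big hN hno hNM (eab_mono h1.1 hM) (hM.trans h1.2.1) hA ?_ hB hex
  exact (le_sup_left.trans (eab_iff.1 h1.1).1).trans (centralizer_le hM)

end big

end Cfsg.Agent.Omega.GI
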