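import Cfsg.Agent.ZN.ChoiceBase

/-!
# THEOREM PL (helper17, bb OMEGA; LEMMA RL of helper335 #24339): a group normalising `B` permutes the lines

Pure group theory. `ρ ≤ V`, `|V| = |ρ|²`; `L` (`= ⟨B^L⟩`) acts on `V`, `B ≤ L` acts as (a subgroup of) the root group with
centre and axis `ρ`, `C_B(V)` is normal in `L`; `R` normalises `B`; `U := ⟨ρ^⟨L,R⟩⟩` is abelian and some subgroup of `B`
offends on `U`.

* `Fr.exists_active` : some extremal `A ≤ B` moves `V`;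
* `Fr.cut` : LINE CUT: such an `A` is a full root group on `U = V C_U(A)`;
* **`Fr.rl`** : `y ∈ R` : `ρ^y = ρ` or `ρ^y ≤ C(⟨A^L⟩)`;
* **`Fr.lines`** : if a 2-group `S ≤ R` is such that `R` centralises the vectors of `⟨ρ^R⟩` fixed by `S`, then
  `ρ^R = ρ^S`.
-/

set_option autoImplicit false
set_option linter.unusedSectionVars false

namespace Cfsg.Agent.Omega.GI.PL

open Subgroup Cfsg Cfsg.Agent.ZN
open Cfsg.Agent.ZN.ChoiceBase (cj mem_cj cj_inf cj_mono cj_centralizer cj_cj cj_one cj_inv_cj cj_cj_inv cj_le_iff card_cj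
  mem_normalizer_iff_cj cj_eq_of_mem_normalizer mem_normalizer_of_cj_le)

universe u

variable {G : Type u} [Group G]

theorem comm_symm {A B : Subgroup G} (h : A ≤ centralizer (B : Set G)) : B ≤ centralizer (A : Set G) :=
  Subgroup.le_centralizer_iff.1 h

theorem card_mul_relIndex {A B : Subgroup G} (h : A ≤ B) : Nat.card A * A.relIndex B = Nat.card B := by
  rw [Subgroup.relIndex, ← Nat.card_congr (Subgroup.subgroupOfEquivOfLe h).toEquiv]
  exact Subgroup.card_mul_index _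

/-- `|K L| |K ∩ L| = |K| |L|` -/
theorem card_sup_mul {K L : Subgroup G} (h : L ≤ normalizer (K : Set G)) :
    Nat.card (K ⊔ L : Subgroup G) * Nat.card (K ⊓ L : Subgroup G) = Nat.card K * Nat.card L := by
  have hKn : (K.subgroupOf (K ⊔ L)).Normal :=
    normal_subgroupOf_of_le_normalizer (sup_le le_normalizer h)
  have h1 := relIndex_sup_left (L.subgroupOf (K ⊔ L)) (K.subgroupOf (K ⊔ L))
  rw [← Subgroup.subgroupOf_sup le_sup_left le_sup_right, Subgroup.subgroupOf_self,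
    Subgroup.relIndex_subgroupOf le_sup_right, relIndex_top_right] at h1
  have h2 : Nat.card K * K.relIndex L = Nat.card (K ⊔ L : Subgroup G) := by
    rw [← h1]
    exact card_mul_relIndex le_sup_left
  have h3 : Nat.card (K ⊓ L : Subgroup G) * K.relIndex L = Nat.card L := by
    rw [← Subgroup.inf_relIndex_right K L]
    exact card_mul_relIndex inf_le_right
  calc _ = Nat.card (K ⊔ L : Subgroup G) * Nat.card (K ⊓ L : Subgroup G) := rfl
    _ = Nat.card K * (Nat.card (K ⊓ L : Subgroup G) * K.relIndex L) := by rw [← h2]; ring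
    _ = _ := by rw [h3]

theorem card_sup_mul_of_comm {K L : Subgroup G} (h : ∀ a ∈ K, ∀ b ∈ L, a * b = b * a) :
    Nat.card (K ⊔ L : Subgroup G) * Nat.card (K ⊓ L : Subgroup G) = Nat.card K * Nat.card L := by
  refine card_sup_mul ((?_ : L ≤ centralizer (K : Set G)).trans (centralizer_le_normalizer _))
  intro b hb
  exact mem_centralizer_iff.mpr fun a ha => h a ha b hb

/-- the `⟨L, R⟩`-closure of `ρ` -/
def UU (L R ρ : Subgroup G) : Subgroup G := ⨆ h : ↥(L ⊔ R), cj (h : G) ρ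

/-- the input -/
structure Fr (B L R V ρ : Subgroup G) : Prop where
  BL : B ≤ L
  gen : L ≤ ⨆ l : L, cj (l : G) B
  BR : B ≤ R
  nB : R ≤ normalizer (B : Set G)
  nV : L ≤ normalizer (V : Set G)
  nC : L ≤ normalizer ((B ⊓ centralizer (V : Set G) : Subgroup G) : Set G)
  rV : ρ ≤ V
  rB : B ≤ centralizer (ρ : Set G)
  vb : ∀ b ∈ B, ∀ v ∈ V, b * v * b⁻¹ * v⁻¹ ∈ ρ
  cen : ∀ b ∈ B, b ∉ centralizer (V : Set G) → ∀ v ∈ V, b * v = v * b → v ∈ ρ
  card : Nat.card V = Nat.card ρ * Nat.card ρ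
  mv : ∃ p ∈ L, ρ ⊓ cj p ρ = ⊥
  ab : ∀ x ∈ UU L R ρ, ∀ y ∈ UU L R ρ, x * y = y * x
  off : ∃ A ≤ B, ¬ A ≤ centralizer (UU L R ρ : Set G) ∧
    (centralizer (A : Set G)).relIndex (UU L R ρ) ≤ (centralizer (UU L R ρ : Set G)).relIndex A

/-- `|A/C_A(U)| |C_U(A)|` -/
noncomputable def FF (U A : Subgroup G) : ℕ :=
  (centralizer (U : Set G)).relIndex A * Nat.card (U ⊓ centralizer (A : Set G) : Subgroup G)

/-- the extremal class -/
structure Mn (B H U A : Subgroup G) : Prop where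
  inB : ∃ h ∈ H, A ≤ cj h B
  mvU : ¬ A ≤ centralizer (U : Set G)
  mx : ∀ A' : Subgroup G, (∃ h ∈ H, A' ≤ cj h B) → ¬ A' ≤ centralizer (U : Set G) → FF U A' ≤ FF U A
  mn : ∀ A' : Subgroup G, (∃ h ∈ H, A' ≤ cj h B) → ¬ A' ≤ centralizer (U : Set G) → FF U A' = FF U A →
    (centralizer (U : Set G)).relIndex A ≤ (centralizer (U : Set G)).relIndex A'

/-- `A` is a full root group on `U = V C_U(A)` -/
structure Root (B U V ρ A : Subgroup G) : Prop where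
  dec : ∀ x ∈ U, ∃ v ∈ V, ∃ c ∈ U, c ∈ centralizer (A : Set G) ∧ x = v * c
  full : ∀ x ∈ U, x ∉ centralizer (A : Set G) → ∀ t ∈ ρ, ∃ a ∈ A, a * x * a⁻¹ * x⁻¹ = t
  low : ∀ x ∈ U, ∀ a ∈ A, a * x * a⁻¹ * x⁻¹ ∈ ρ
  inV : ∀ x ∈ V, x ∈ centralizer (A : Set G) → x ∈ ρ
  BA : B ≤ A ⊔ (B ⊓ centralizer (V : Set G))

theorem mem_cent_of {A : Subgroup G} {x : G} (h : ∀ a ∈ A, a * x = x * a) : x ∈ centralizer (A : Set G) := by
  rw [mem_centralizer_iff]
  exact h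

theorem relIndex_cj (g : G) (H K : Subgroup G) : (cj g H).relIndex (cj g K) = H.relIndex K :=
  Subgroup.relIndex_map_map_of_injective _ _ (MulAut.conj g).injective

section basic

variable {L R ρ : Subgroup G}

theorem cj_le_UU {h : G} (hh : h ∈ L ⊔ R) : cj h ρ ≤ UU L R ρ :=
  le_iSup (fun h : ↥(L ⊔ R) => cj (h : G) ρ) ⟨h, hh⟩

theorem rho_le_UU : ρ ≤ UU L R ρ := by
  have h := cj_le_UU (L := L) (R := R) (ρ := ρ) (one_mem _)
  rwa [cj_one] at h

theorem cj_UU_le {g : G} (hg : g ∈ L ⊔ R) : cj g (UU L R ρ) ≤ UU L R ρ := by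
  rw [cj_le_iff]
  refine iSup_le fun h => ?_
  rw [← cj_le_iff, cj_cj]
  exact cj_le_UU (mul_mem hg h.2)

theorem cj_UU {g : G} (hg : g ∈ L ⊔ R) : cj g (UU L R ρ) = UU L R ρ := by
  refine le_antisymm (cj_UU_le hg) ?_
  have h := cj_mono g (cj_UU_le (ρ := ρ) (inv_mem hg))
  rwa [cj_cj_inv] at h

theorem conj_mem_UU {g : G} (hg : g ∈ L ⊔ R) {x : G} (hx : x ∈ UU L R ρ) : g * x * g⁻¹ ∈ UU L R ρ := by
  have h : g * x * g⁻¹ ∈ cj g (UU L R ρ) := by
    rw [mem_cj]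
    have e : g⁻¹ * (g * x * g⁻¹) * g = x := by group
    rwa [e]
  rwa [cj_UU hg] at h

theorem cj_centUU {g : G} (hg : g ∈ L ⊔ R) :
    cj g (centralizer (UU L R ρ : Set G)) = centralizer (UU L R ρ : Set G) := by
  rw [cj_centralizer, cj_UU hg]

theorem FF_cj {g : G} (hg : g ∈ L ⊔ R) (A : Subgroup G) : FF (UU L R ρ) (cj g A) = FF (UU L R ρ) A := by
  have h1 : (centralizer (UU L R ρ : Set G)).relIndex (cj g A) = (centralizer (UU L R ρ : Set G)).relIndex A := by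
    conv_lhs => rw [← cj_centUU (ρ := ρ) hg]
    exact relIndex_cj g _ _
  have h2 : (UU L R ρ ⊓ centralizer (cj g A : Set G) : Subgroup G) = cj g (UU L R ρ ⊓ centralizer (A : Set G)) := by
    rw [cj_inf, cj_UU hg, cj_centralizer]
  unfold FF
  rw [h1, h2, card_cj]

theorem not_le_cj {g : G} (hg : g ∈ L ⊔ R) {A : Subgroup G} (h : ¬ A ≤ centralizer (UU L R ρ : Set G)) :
    ¬ cj g A ≤ centralizer (UU L R ρ : Set G) := by
  intro h1
  apply h
  rw [cj_le_iff, cj_centUU (inv_mem hg)] at h1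
  exact h1

theorem Mn.cj {B A : Subgroup G} (h : Mn B (L ⊔ R) (UU L R ρ) A) {g : G} (hg : g ∈ L ⊔ R) :
    Mn B (L ⊔ R) (UU L R ρ) (cj g A) where
  inB := by
    obtain ⟨k, hk, h1⟩ := h.inB
    refine ⟨g * k, mul_mem hg hk, ?_⟩
    rw [← cj_cj]
    exact cj_mono g h1
  mvU := not_le_cj hg h.mvU
  mx := by
    intro A' h1 h2
    rw [FF_cj hg]
    exact h.mx A' h1 h2
  mn := by
    intro A' h1 h2 h3
    rw [FF_cj hg] at h3
    have e : (centralizer (UU L R ρ : Set G)).relIndex (ChoiceBase.cj g A) =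
        (centralizer (UU L R ρ : Set G)).relIndex A := by
      conv_lhs => rw [← cj_centUU (ρ := ρ) hg]
      exact relIndex_cj g _ _
    rw [e]
    exact h.mn A' h1 h2 h3

end basic

section

variable [Finite G] {B L R V ρ : Subgroup G}

theorem Fr.cj_le_V (h : Fr B L R V ρ) {p : G} (hp : p ∈ L) : cj p ρ ≤ V := by
  have h1 := cj_mono p h.rV
  rwa [cj_eq_of_mem_normalizer (h.nV hp)] at h1

theorem Fr.V_le (h : Fr B L R V ρ) : V ≤ UU L R ρ := by
  obtain ⟨p, hp, hp1⟩ := h.mv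
  have hpU : cj p ρ ≤ UU L R ρ := cj_le_UU (mem_sup_left hp)
  have h1 := card_sup_mul_of_comm (K := ρ) (L := cj p ρ)
    fun a ha b hb => h.ab a (rho_le_UU ha) b (hpU hb)
  rw [hp1, card_bot, mul_one, card_cj, ← h.card] at h1
  have h2 : ρ ⊔ cj p ρ ≤ V := sup_le h.rV (h.cj_le_V hp)
  have h3 : ρ ⊔ cj p ρ = V := Subgroup.eq_of_le_of_card_ge h2 h1.ge
  rw [← h3]
  exact sup_le rho_le_UU hpU

theorem card_pos' (H : Subgroup G) : 0 < Nat.card H := Nat.card_pos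

theorem Fr.exists_mn (h : Fr B L R V ρ) :
    ∃ A, Mn B (L ⊔ R) (UU L R ρ) A ∧ Nat.card (UU L R ρ) ≤ FF (UU L R ρ) A := by
  set U := UU L R ρ with hU
  set X : Set (Subgroup G) := {A | (∃ k ∈ L ⊔ R, A ≤ cj k B) ∧ ¬ A ≤ centralizer (U : Set G)} with hX
  obtain ⟨A₀, hA₀, hm, ho⟩ := h.off
  have hA₀X : A₀ ∈ X := ⟨⟨1, one_mem _, by rw [cj_one]; exact hA₀⟩, hm⟩
  obtain ⟨A₁, hA₁, h1⟩ := Set.exists_max_image X (fun A => FF U A) (Set.toFinite _) ⟨A₀, hA₀X⟩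
  obtain ⟨A₂, ⟨hA₂, h2⟩, h3⟩ := Set.exists_min_image {A | A ∈ X ∧ FF U A = FF U A₁}
    (fun A => (centralizer (U : Set G)).relIndex A) (Set.toFinite _) ⟨A₁, hA₁, rfl⟩
  refine ⟨A₂, ⟨hA₂.1, hA₂.2, fun A' h4 h5 => ?_, fun A' h4 h5 h6 => ?_⟩, ?_⟩
  · rw [h2]
    exact h1 A' ⟨h4, h5⟩
  · exact h3 A' ⟨⟨h4, h5⟩, h6.trans h2⟩
  · have h4 : FF U A₀ ≤ FF U A₂ := by
      rw [h2]
      exact h1 A₀ hA₀X
    refine le_trans ?_ h4
    have h5 := card_mul_relIndex (inf_le_left : U ⊓ centralizer (A₀ : Set G) ≤ U)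
    rw [Subgroup.inf_relIndex_left] at h5
    unfold FF
    rw [← h5, Nat.mul_comm]
    exact Nat.mul_le_mul_right _ ho

theorem Mn.card_le {A : Subgroup G} (h : Fr B L R V ρ) (hA : Mn B (L ⊔ R) (UU L R ρ) A) :
    Nat.card (UU L R ρ) ≤ FF (UU L R ρ) A := by
  obtain ⟨A₁, h1, h2⟩ := h.exists_mn
  exact h2.trans (hA.mx A₁ h1.inB h1.mvU)

/-- **some extremal `A ≤ B` moves `V`** -/
theorem Fr.exists_active (h : Fr B L R V ρ) :
    ∃ A ≤ B, Mn B (L ⊔ R) (UU L R ρ) A ∧ ¬ A ≤ centralizer (V : Set G) := by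
  by_contra hc
  push Not at hc
  set K : Subgroup G := sSup {A | A ≤ B ∧ Mn B (L ⊔ R) (UU L R ρ) A} with hK
  have hKB : K ≤ B := sSup_le fun A hA => hA.1
  have hL : ∀ l ∈ L, cj l K ≤ K := by
    intro l hl
    rw [cj_le_iff]
    refine sSup_le fun A hA => ?_
    rw [← cj_le_iff]
    refine le_sSup ⟨?_, hA.2.cj (mem_sup_left hl)⟩
    have h1 : cj l A ≤ cj l (B ⊓ centralizer (V : Set G)) := cj_mono l (le_inf hA.1 (hc A hA.1 hA.2))
    rw [cj_eq_of_mem_normalizer (h.nC hl)] at h1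
    exact h1.trans inf_le_left
  have hR : ∀ r ∈ R, cj r K ≤ K := by
    intro r hr
    rw [cj_le_iff]
    refine sSup_le fun A hA => ?_
    rw [← cj_le_iff]
    refine le_sSup ⟨?_, hA.2.cj (mem_sup_right hr)⟩
    have h1 := cj_mono r hA.1
    rwa [cj_eq_of_mem_normalizer (h.nB hr)] at h1
  have hn : L ⊔ R ≤ normalizer (K : Set G) :=
    sup_le (fun l hl => mem_normalizer_of_cj_le (hL l hl)) fun r hr => mem_normalizer_of_cj_le (hR r hr)
  have hKU : K ≤ centralizer (UU L R ρ : Set G) := by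
    refine comm_symm (iSup_le fun k => ?_)
    have h1 : ρ ≤ centralizer (K : Set G) := comm_symm (hKB.trans h.rB)
    have h2 := cj_mono (k : G) h1
    rwa [cj_centralizer, cj_eq_of_mem_normalizer (hn k.2)] at h2
  obtain ⟨A, hA, -⟩ := h.exists_mn
  obtain ⟨k, hk, h1⟩ := hA.inB
  have h2 : cj k⁻¹ A ≤ B := by
    rw [cj_le_iff, inv_inv]
    exact h1
  have h3 : cj k⁻¹ A ≤ K := le_sSup ⟨h2, hA.cj (inv_mem hk)⟩
  exact (hA.cj (inv_mem hk)).mvU (h3.trans hKU)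

/-- the map `a ↦ [a, v]` on `A / C_A(V)` -/
theorem Fr.inj (h : Fr B L R V ρ) {A : Subgroup G} (hAB : A ≤ B) {v : G} (hv : v ∈ V) (hvr : v ∉ ρ) :
    ∃ f : (↥A ⧸ (centralizer (V : Set G)).subgroupOf A) → ρ, Function.Injective f ∧
      ∀ c, ∃ a ∈ A, a * v * a⁻¹ * v⁻¹ = (f c : G) := by
  refine ⟨fun c => ⟨(c.out : G) * v * (c.out : G)⁻¹ * v⁻¹, h.vb _ (hAB c.out.2) v hv⟩, ?_,
    fun c => ⟨(c.out : G), c.out.2, rfl⟩⟩
  intro c d hcd
  have h1 : (c.out : G) * v * (c.out : G)⁻¹ * v⁻¹ = (d.out : G) * v * (d.out : G)⁻¹ * v⁻¹ := congrArg Subtype.val hcd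
  have h2 : (c.out : G) * v * (c.out : G)⁻¹ = (d.out : G) * v * (d.out : G)⁻¹ := mul_right_cancel h1
  have h3 : ((d.out : G)⁻¹ * (c.out : G)) * v = v * ((d.out : G)⁻¹ * (c.out : G)) := by
    have h4 := congrArg (fun t => (d.out : G)⁻¹ * t * (c.out : G)) h2
    have e1 : (d.out : G)⁻¹ * ((c.out : G) * v * (c.out : G)⁻¹) * (c.out : G) = ((d.out : G)⁻¹ * (c.out : G)) * v := by
      group
    have e2 : (d.out : G)⁻¹ * ((d.out : G) * v * (d.out : G)⁻¹) * (c.out : G) = v * ((d.out : G)⁻¹ * (c.out : G)) := by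
      group
    rw [e1, e2] at h4
    exact h4
  have h4 : (d.out : G)⁻¹ * (c.out : G) ∈ centralizer (V : Set G) := by
    by_contra hc
    exact hvr (h.cen _ (hAB (mul_mem (inv_mem d.out.2) c.out.2)) hc v hv h3)
  have h5 : (QuotientGroup.mk d.out : ↥A ⧸ (centralizer (V : Set G)).subgroupOf A) = QuotientGroup.mk c.out := by
    rw [QuotientGroup.eq, mem_subgroupOf]
    exact h4
  rw [← Quotient.out_eq c, ← Quotient.out_eq d]
  exact h5.symm

theorem Fr.rho_le_cent (h : Fr B L R V ρ) {A : Subgroup G} (hAB : A ≤ B) : ρ ≤ centralizer (A : Set G) :=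
  comm_symm (hAB.trans h.rB)

theorem Fr.exists_v (h : Fr B L R V ρ) {A : Subgroup G} (hAV : ¬ A ≤ centralizer (V : Set G)) (hAB : A ≤ B) :
    ∃ v ∈ V, v ∉ ρ := by
  by_contra hc
  push Not at hc
  exact hAV (comm_symm ((show V ≤ ρ from hc).trans (h.rho_le_cent hAB)))

/-- **LINE CUT** -/
theorem Fr.cut (h : Fr B L R V ρ) {A : Subgroup G} (hA : Mn B (L ⊔ R) (UU L R ρ) A) (hAB : A ≤ B)
    (hAV : ¬ A ≤ centralizer (V : Set G)) : Root B (UU L R ρ) V ρ A := by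
  set U := UU L R ρ with hU
  have hVU : V ≤ U := h.V_le
  obtain ⟨v₀, hv₀, hv₀r⟩ := h.exists_v hAV hAB
  obtain ⟨a₀, ha₀, ha₀V⟩ := SetLike.not_le_iff_exists.1 hAV
  -- `C_V(A) = ρ`
  have hCV : V ⊓ (U ⊓ centralizer (A : Set G)) = ρ := by
    refine le_antisymm (fun x hx => ?_) (le_inf h.rV (le_inf (h.rV.trans hVU) (h.rho_le_cent hAB)))
    exact h.cen a₀ (hAB ha₀) ha₀V x hx.1 (mem_centralizer_iff.1 hx.2.2 a₀ ha₀)
  set A₀ := A ⊓ centralizer (V : Set G) with hA₀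
  set r := (centralizer (U : Set G)).relIndex A with hr
  set r₀ := (centralizer (U : Set G)).relIndex A₀ with hr₀
  set s := (centralizer (V : Set G)).relIndex A with hs
  set q := Nat.card ρ with hq
  set c := Nat.card (U ⊓ centralizer (A : Set G) : Subgroup G) with hc
  set c₀ := Nat.card (U ⊓ centralizer (A₀ : Set G) : Subgroup G) with hc₀
  have hcpos : 0 < c := card_pos' _
  have hq0 : 0 < q := card_pos' _
  obtain ⟨f, hf, hfa⟩ := h.inj hAB hv₀ hv₀r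
  have hsq : s ≤ q := Nat.card_le_card_of_injective f hf
  have hs2 : 2 ≤ s := by
    have h1 : s ≠ 1 := fun h1 => hAV (relIndex_eq_one.1 h1)
    have h2 : s ≠ 0 := index_ne_zero_of_finite
    omega
  have hr₀pos : 0 < r₀ := Nat.pos_of_ne_zero index_ne_zero_of_finite
  have hrr : r = r₀ * s := by
    have h1 : A ⊓ centralizer (U : Set G) ≤ A₀ := inf_le_inf_left _ (centralizer_le hVU)
    have h2 := relIndex_mul_relIndex (A ⊓ centralizer (U : Set G)) A₀ A h1 inf_le_left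
    rw [Subgroup.inf_relIndex_left, hA₀, Subgroup.inf_relIndex_left, ← hA₀] at h2
    have h3 : (A ⊓ centralizer (U : Set G)).relIndex A₀ = r₀ := by
      rw [hr₀, ← inf_relIndex_right (A ⊓ centralizer (U : Set G)) A₀, ← inf_relIndex_right (centralizer (U : Set G)) A₀]
      congr 1
      rw [inf_comm A, inf_assoc, inf_eq_right.2 (inf_le_left : A₀ ≤ A)]
    rw [h3] at h2
    exact h2.symm
  have hVC : Nat.card (V ⊔ (U ⊓ centralizer (A : Set G)) : Subgroup G) = q * c := by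
    have h1 := card_sup_mul_of_comm (K := V) (L := U ⊓ centralizer (A : Set G))
      fun a ha b hb => h.ab a (hVU ha) b hb.1
    rw [hCV, h.card] at h1
    have h2 : Nat.card (V ⊔ (U ⊓ centralizer (A : Set G)) : Subgroup G) * q = (q * c) * q := by
      rw [h1]; ring
    exact Nat.eq_of_mul_eq_mul_right hq0 h2
  have hVle : V ⊔ (U ⊓ centralizer (A : Set G)) ≤ U := sup_le hVU inf_le_left
  have hcc : q * c ≤ c₀ := by
    rw [← hVC]
    refine Subgroup.card_le_of_le (le_inf hVle (sup_le ?_ ?_))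
    · exact comm_symm inf_le_right
    · exact inf_le_right.trans (centralizer_le inf_le_left)
  have hFA : FF U A = r₀ * s * c := by
    unfold FF
    rw [← hr, ← hc, hrr]
  have hFA₀ : FF U A₀ = r₀ * c₀ := rfl
  have hcase : A₀ ≤ centralizer (U : Set G) := by
    by_contra hmv
    have hin : ∃ k ∈ L ⊔ R, A₀ ≤ cj k B := ⟨1, one_mem _, by rw [cj_one]; exact inf_le_left.trans hAB⟩
    have h1 := hA.mx A₀ hin hmv
    have h2 : FF U A ≤ FF U A₀ := by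
      rw [hFA, hFA₀, mul_assoc]
      exact Nat.mul_le_mul_left _ ((Nat.mul_le_mul_right c hsq).trans hcc)
    have h3 := hA.mn A₀ hin hmv (le_antisymm h1 h2)
    change r ≤ r₀ at h3
    rw [hrr] at h3
    nlinarith
  have hr₀1 : r₀ = 1 := relIndex_eq_one.2 hcase
  have hcU : Nat.card U ≤ s * c := by
    have h1 := Mn.card_le h hA
    rw [← hU, hFA, hr₀1, one_mul] at h1
    exact h1
  have hle : q * c ≤ Nat.card U := by
    rw [← hVC]
    exact Subgroup.card_le_of_le hVle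
  have hsq' : s = q := by
    refine le_antisymm hsq ?_
    exact Nat.le_of_mul_le_mul_right (hle.trans hcU) hcpos
  have hUV : V ⊔ (U ⊓ centralizer (A : Set G)) = U := by
    refine Subgroup.eq_of_le_of_card_ge hVle ?_
    rw [hVC, ← hsq']
    exact hcU
  have hdec : ∀ x ∈ U, ∃ v ∈ V, ∃ c ∈ U, c ∈ centralizer (A : Set G) ∧ x = v * c := by
    intro x hx
    rw [← hUV] at hx
    have hn : (U ⊓ centralizer (A : Set G) : Subgroup G) ≤ normalizer (V : Set G) := by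
      refine (show (U ⊓ centralizer (A : Set G) : Subgroup G) ≤ centralizer (V : Set G) from ?_).trans
        (centralizer_le_normalizer _)
      intro y hy
      exact mem_cent_of fun v hv => h.ab v (hVU hv) y hy.1
    rw [← SetLike.mem_coe, coe_mul_of_right_le_normalizer_left _ _ hn] at hx
    obtain ⟨v, hv, c, hc, rfl⟩ := hx
    exact ⟨v, hv, c, hc.1, hc.2, rfl⟩
  -- displacement of `v c`
  have hdis : ∀ v ∈ V, ∀ c ∈ U, c ∈ centralizer (A : Set G) → ∀ a ∈ A,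
      a * (v * c) * a⁻¹ * (v * c)⁻¹ = a * v * a⁻¹ * v⁻¹ := by
    intro v _ c _ hc a ha
    have h1 : a * c * a⁻¹ = c := by
      rw [mem_centralizer_iff.1 hc a ha]; group
    calc a * (v * c) * a⁻¹ * (v * c)⁻¹ = a * v * a⁻¹ * (a * c * a⁻¹) * c⁻¹ * v⁻¹ := by group
      _ = a * v * a⁻¹ * v⁻¹ := by rw [h1]; group
  have hfs : Function.Surjective f := by
    have h1 : Nat.card (↥A ⧸ (centralizer (V : Set G)).subgroupOf A) = Nat.card ρ := hsq'
    exact ((Nat.bijective_iff_injective_and_card f).2 ⟨hf, h1⟩).2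
  refine ⟨hdec, ?_, ?_, ?_, ?_⟩
  · intro x hx hxA t ht
    obtain ⟨v, hv, c, hcU', hcA, rfl⟩ := hdec x hx
    have hvr : v ∉ ρ := by
      intro hvr
      exact hxA (mul_mem (h.rho_le_cent hAB hvr) hcA)
    obtain ⟨f', hf', hfa'⟩ := h.inj hAB hv hvr
    have h1 : Nat.card (↥A ⧸ (centralizer (V : Set G)).subgroupOf A) = Nat.card ρ := hsq'
    obtain ⟨d, hd⟩ := ((Nat.bijective_iff_injective_and_card f').2 ⟨hf', h1⟩).2 ⟨t, ht⟩
    obtain ⟨a, ha, ha1⟩ := hfa' d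
    refine ⟨a, ha, ?_⟩
    rw [hdis v hv c hcU' hcA a ha, ha1, hd]
  · intro x hx a ha
    obtain ⟨v, hv, c, hcU', hcA, rfl⟩ := hdec x hx
    rw [hdis v hv c hcU' hcA a ha]
    exact h.vb a (hAB ha) v hv
  · intro x hx hxA
    rw [← hCV]
    exact ⟨hx, hVU hx, hxA⟩
  · -- `B = A C_B(V)`
    intro b hb
    have h1 : (⟨b * v₀ * b⁻¹ * v₀⁻¹, h.vb b hb v₀ hv₀⟩ : ρ) ∈ Set.range f := hfs _
    obtain ⟨d, hd⟩ := h1
    obtain ⟨a, ha, ha1⟩ := hfa d
    rw [hd] at ha1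
    have h2 : a * v₀ * a⁻¹ = b * v₀ * b⁻¹ := mul_right_cancel ha1
    have h3 : (a⁻¹ * b) * v₀ = v₀ * (a⁻¹ * b) := by
      have h4 := congrArg (fun t => a⁻¹ * t * b) h2
      have e1 : a⁻¹ * (a * v₀ * a⁻¹) * b = v₀ * (a⁻¹ * b) := by group
      have e2 : a⁻¹ * (b * v₀ * b⁻¹) * b = (a⁻¹ * b) * v₀ := by group
      rw [e1, e2] at h4
      exact h4.symm
    have hab : a⁻¹ * b ∈ B := mul_mem (inv_mem (hAB ha)) hb
    have h4 : a⁻¹ * b ∈ centralizer (V : Set G) := by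
      by_contra hc'
      exact hv₀r (h.cen _ hab hc' v₀ hv₀ h3)
    have e : b = a * (a⁻¹ * b) := by group
    rw [e]
    exact mul_mem (mem_sup_left ha) (mem_sup_right ⟨hab, h4⟩)

/-! ### LEMMA RL -/

theorem low_cj {U A ρ : Subgroup G} {g : G} (hg : cj g U = U) (h : ∀ x ∈ U, ∀ a ∈ A, a * x * a⁻¹ * x⁻¹ ∈ ρ) :
    ∀ x ∈ U, ∀ a ∈ cj g A, a * x * a⁻¹ * x⁻¹ ∈ cj g ρ := by
  intro x hx a ha
  rw [mem_cj] at ha ⊢
  have hx' : g⁻¹ * x * g ∈ U := by
    rw [← hg] at hx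
    exact mem_cj.1 hx
  have h1 := h _ hx' _ ha
  have e : g⁻¹ * (a * x * a⁻¹ * x⁻¹) * g =
      g⁻¹ * a * g * (g⁻¹ * x * g) * (g⁻¹ * a * g)⁻¹ * (g⁻¹ * x * g)⁻¹ := by group
  rw [e]
  exact h1

theorem full_cj {U A ρ : Subgroup G} {g : G} (hg : cj g U = U)
    (h : ∀ x ∈ U, x ∉ centralizer (A : Set G) → ∀ t ∈ ρ, ∃ a ∈ A, a * x * a⁻¹ * x⁻¹ = t) :
    ∀ x ∈ U, x ∉ centralizer (cj g A : Set G) → ∀ t ∈ cj g ρ, ∃ a ∈ cj g A, a * x * a⁻¹ * x⁻¹ = t := by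
  intro x hx hxA t ht
  have hx' : g⁻¹ * x * g ∈ U := by
    rw [← hg] at hx
    exact mem_cj.1 hx
  have hxA' : g⁻¹ * x * g ∉ centralizer (A : Set G) := by
    intro h1
    apply hxA
    rw [← cj_centralizer, mem_cj]
    exact h1
  obtain ⟨a, ha, h1⟩ := h _ hx' hxA' _ (mem_cj.1 ht)
  refine ⟨g * a * g⁻¹, ?_, ?_⟩
  · rw [mem_cj]
    have e : g⁻¹ * (g * a * g⁻¹) * g = a := by group
    rwa [e]
  · calc g * a * g⁻¹ * x * (g * a * g⁻¹)⁻¹ * x⁻¹ = g * (a * (g⁻¹ * x * g) * a⁻¹ * (g⁻¹ * x * g)⁻¹) * g⁻¹ := by group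
      _ = t := by rw [h1]; group

/-- the elements of `L` which act trivially on `U / V` -/
def TT (U V L : Subgroup G) (hU : L ≤ normalizer (U : Set G)) : Subgroup G where
  carrier := {g | g ∈ L ∧ ∀ z ∈ U, g * z * g⁻¹ * z⁻¹ ∈ V}
  one_mem' := ⟨one_mem _, fun z _ => by
    have e : (1 : G) * z * 1⁻¹ * z⁻¹ = 1 := by group
    rw [e]; exact one_mem _⟩
  mul_mem' := by
    rintro a b ⟨ha, h1⟩ ⟨hb, h2⟩
    refine ⟨mul_mem ha hb, fun z hz => ?_⟩
    have hbz : b * z * b⁻¹ ∈ U := (mem_normalizer_iff.1 (hU hb) z).1 hz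
    have e : a * b * z * (a * b)⁻¹ * z⁻¹ = (a * (b * z * b⁻¹) * a⁻¹ * (b * z * b⁻¹)⁻¹) * (b * z * b⁻¹ * z⁻¹) := by group
    rw [e]
    exact mul_mem (h1 _ hbz) (h2 z hz)
  inv_mem' := by
    rintro a ⟨ha, h1⟩
    refine ⟨inv_mem ha, fun z hz => ?_⟩
    have hz' : a⁻¹ * z * a ∈ U := by
      have h2 := (mem_normalizer_iff.1 (hU (inv_mem ha)) z).1 hz
      rwa [inv_inv] at h2
    have h2 := h1 _ hz'
    have e : a⁻¹ * z * a⁻¹⁻¹ * z⁻¹ = (a * (a⁻¹ * z * a) * a⁻¹ * (a⁻¹ * z * a)⁻¹)⁻¹ := by group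
    rw [e]
    exact inv_mem h2

theorem mem_TT {U V L : Subgroup G} {hU : L ≤ normalizer (U : Set G)} {g : G} :
    g ∈ TT U V L hU ↔ g ∈ L ∧ ∀ z ∈ U, g * z * g⁻¹ * z⁻¹ ∈ V := Iff.rfl

theorem nU (L R ρ : Subgroup G) : L ⊔ R ≤ normalizer (UU L R ρ : Set G) := fun _ hg =>
  mem_normalizer_iff_cj.2 (cj_UU hg)

theorem iSup_cj_normal (L A : Subgroup G) : L ≤ normalizer ((⨆ l : L, cj (l : G) A : Subgroup G) : Set G) := by
  intro g hg
  refine mem_normalizer_of_cj_le ?_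
  rw [cj_le_iff]
  refine iSup_le fun l => ?_
  rw [← cj_le_iff, cj_cj]
  exact le_iSup (fun l : L => cj (l : G) A) ⟨g * l, mul_mem hg l.2⟩

/-- an element moving `ρ^p` to `ρ` and acting trivially on `U / V` -/
theorem Fr.exists_g (h : Fr B L R V ρ) {A : Subgroup G} (hAB : A ≤ B) (hr : Root B (UU L R ρ) V ρ A) {p : G}
    (hp : p ∈ L) :
    ∃ g ∈ L, (∀ z ∈ UU L R ρ, g * z * g⁻¹ * z⁻¹ ∈ V) ∧ (∀ z ∈ UU L R ρ, g⁻¹ * z * g * z⁻¹ ∈ V) ∧
      cj g (cj p ρ) = ρ := by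
  have hU : L ≤ normalizer (UU L R ρ : Set G) := le_sup_left.trans (nU L R ρ)
  set T := TT (UU L R ρ) V L hU with hT
  set B₀ := B ⊓ centralizer (V : Set G) with hB₀
  have hAT : ∀ l ∈ L, cj l A ≤ T := by
    intro l hl a ha
    refine mem_TT.2 ⟨?_, fun z hz => ?_⟩
    · have h1 := cj_mono l (hAB.trans h.BL) ha
      rwa [cj_eq_of_mem_normalizer (le_normalizer hl)] at h1
    · exact h.cj_le_V hl (low_cj (cj_UU (mem_sup_left hl)) hr.low z hz a ha)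
  have hTL : T ≤ L := fun g hg => (mem_TT.1 hg).1
  have hBL : ∀ l ∈ L, cj l B ≤ B₀ ⊔ T := by
    intro l hl
    refine (cj_mono l hr.BA).trans ?_
    rw [show cj l (A ⊔ B₀) = cj l A ⊔ cj l B₀ from Subgroup.map_sup _ _ _, cj_eq_of_mem_normalizer (h.nC hl)]
    exact sup_le ((hAT l hl).trans le_sup_right) le_sup_left
  have hL : L ≤ B₀ ⊔ T := h.gen.trans (iSup_le fun l => hBL l l.2)
  have hn : T ≤ normalizer (B₀ : Set G) := hTL.trans h.nC
  have h1 := hL (inv_mem hp)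
  rw [← SetLike.mem_coe, coe_mul_of_right_le_normalizer_left _ _ hn] at h1
  obtain ⟨b, hb, g, hg, hbg⟩ := h1
  have hb' : b ∈ B₀ := hb
  refine ⟨g, (mem_TT.1 hg).1, (mem_TT.1 hg).2, ?_, ?_⟩
  · have h2 := (mem_TT.1 (inv_mem hg)).2
    intro z hz
    have h3 := h2 z hz
    rwa [inv_inv] at h3
  · have e : g = b⁻¹ * p⁻¹ := by
      rw [← hbg]; group
    rw [cj_cj, e, mul_assoc, inv_mul_cancel, mul_one]
    refine cj_eq_of_mem_normalizer (centralizer_le_normalizer _ ?_)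
    exact inv_mem (h.rB hb'.1)

/-- **LEMMA RL** (helper335 #24339) -/
theorem Fr.rl (h : Fr B L R V ρ) {A : Subgroup G} (hA : Mn B (L ⊔ R) (UU L R ρ) A) (hAB : A ≤ B)
    (hAV : ¬ A ≤ centralizer (V : Set G)) {y : G} (hy : y ∈ R) (hne : cj y ρ ≠ ρ) {p : G} (hp : p ∈ L) :
    cj y ρ ≤ centralizer (cj p A : Set G) := by
  have hr := h.cut hA hAB hAV
  have hyU : cj y (UU L R ρ) = UU L R ρ := cj_UU (mem_sup_right hy)
  have hpU : cj p (UU L R ρ) = UU L R ρ := cj_UU (mem_sup_left hp)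
  have hyUm : ∀ x ∈ UU L R ρ, y⁻¹ * x * y ∈ UU L R ρ := by
    intro x hx
    rw [← hyU] at hx
    exact mem_cj.1 hx
  set U := UU L R ρ with hU
  have hVU : V ≤ U := h.V_le
  set As := cj y A with hAs
  have hAsM : Mn B (L ⊔ R) U As := hA.cj (mem_sup_right hy)
  have hAsB : As ≤ B := by
    have h1 := cj_mono y hAB
    rwa [cj_eq_of_mem_normalizer (h.nB hy)] at h1
  have lowS := low_cj hyU hr.low
  have fullS := full_cj hyU hr.full
  obtain ⟨x, hx, hxA⟩ : ∃ x ∈ U, x ∉ centralizer (As : Set G) := by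
    by_contra hc
    push Not at hc
    exact hAsM.mvU (comm_symm (show U ≤ centralizer (As : Set G) from hc))
  -- `A_s` centralises `V`
  have hAsV : As ≤ centralizer (V : Set G) := by
    by_contra hc
    have hr' := h.cut hAsM hAsB hc
    apply hne
    refine Subgroup.eq_of_le_of_card_ge (fun t ht => ?_) (card_cj y ρ).ge
    obtain ⟨a, ha, h1⟩ := fullS x hx hxA t ht
    rw [← h1]
    exact hr'.low x hx a ha
  by_contra hcon
  obtain ⟨s, hs, hsA⟩ := SetLike.not_le_iff_exists.1 hcon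
  have hsU : s ∈ U := cj_le_UU (mem_sup_right hy) hs
  obtain ⟨α, hα, hαx⟩ := fullS x hx hxA s hs
  obtain ⟨g, hg, hgV, hgV', hgρ⟩ := h.exists_g hAB hr hp
  have hgU : ∀ z ∈ U, g * z * g⁻¹ ∈ U := fun z hz => conj_mem_UU (mem_sup_left hg) hz
  -- `s` is centralised by `A_s`
  have hscent : ∀ a ∈ As, a * s = s * a := by
    intro a ha
    have h1 : cj y ρ ≤ centralizer (As : Set G) := by
      rw [hAs, ← cj_centralizer]
      exact cj_mono y (h.rho_le_cent hAB)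
    exact mem_centralizer_iff.1 (h1 hs) a ha
  -- the group `C_U(A_s)`
  have hVcent : ∀ v ∈ V, ∀ a ∈ As, a * v = v * a := fun v hv a ha => (mem_centralizer_iff.1 (hAsV ha) v hv).symm
  apply hne
  have key : cj y⁻¹ ρ ≤ ρ := by
    intro t' ht'
    -- `t' = y⁻¹ t y`
    rw [mem_cj, inv_inv] at ht'
    set t := y * t' * y⁻¹ with ht
    have hgt : g⁻¹ * t * g ∈ cj p ρ := by
      rw [← hgρ, mem_cj] at ht'
      exact ht'
    obtain ⟨β, hβ, hβs⟩ := full_cj hpU hr.full s hsU hsA _ hgt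
    have hβL : β ∈ L := by
      have h1 := cj_mono p (hAB.trans h.BL) hβ
      rwa [cj_eq_of_mem_normalizer (le_normalizer hp)] at h1
    have hβV : ∀ z ∈ U, β⁻¹ * z * β * z⁻¹ ∈ V := by
      intro z hz
      have h1 := low_cj hpU hr.low z hz β⁻¹ (inv_mem hβ)
      rw [inv_inv] at h1
      exact h.cj_le_V hp h1
    -- `E := β α β⁻¹` centralises `C_U(A_s)`
    have hE : ∀ z ∈ U, (∀ a ∈ As, a * z = z * a) → (β * α * β⁻¹) * z = z * (β * α * β⁻¹) := by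
      intro z hz hza
      have h1 : β⁻¹ * z * β = (β⁻¹ * z * β * z⁻¹) * z := by group
      have h2 : α * (β⁻¹ * z * β) = (β⁻¹ * z * β) * α := by
        rw [h1, ← mul_assoc, hVcent _ (hβV z hz) α hα, mul_assoc, hza α hα]; group
      have h3 := congrArg (fun w => β * w * β⁻¹) h2
      have e1 : β * (α * (β⁻¹ * z * β)) * β⁻¹ = (β * α * β⁻¹) * z := by group
      have e2 : β * ((β⁻¹ * z * β) * α) * β⁻¹ = z * (β * α * β⁻¹) := by group
      rw [← e1, ← e2]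
      exact h3
    have hαi : α⁻¹ ∈ As := inv_mem hα
    -- `γ := E α⁻¹`
    set γ := β * α * β⁻¹ * α⁻¹ with hγ
    have hγz : ∀ z ∈ U, (∀ a ∈ As, a * z = z * a) → γ * z = z * γ := by
      intro z hz hza
      rw [hγ, mul_assoc, hza _ hαi, ← mul_assoc, hE z hz hza, mul_assoc]
    have hx1 : α * x * α⁻¹ = s * x := by
      have h1 := hαx
      calc α * x * α⁻¹ = (α * x * α⁻¹ * x⁻¹) * x := by group
        _ = s * x := by rw [h1]
    have hx2 : α⁻¹ * x * α = s⁻¹ * x := by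
      have h1 : α⁻¹ * (s * x) * α = x := by rw [← hx1]; group
      have h2 : α⁻¹ * (s * x) * α = s * (α⁻¹ * x * α) := by
        rw [← mul_assoc, hscent _ hαi]; group
      rw [h2] at h1
      exact eq_inv_mul_iff_mul_eq.2 h1
    have hx3 : (β * α * β⁻¹) * x * (β * α * β⁻¹)⁻¹ = (β * s * β⁻¹) * x := by
      set v := β⁻¹ * x * β * x⁻¹ with hv
      have hvV : v ∈ V := hβV x hx
      have h1 : β⁻¹ * x * β = v * x := by rw [hv]; group
      calc (β * α * β⁻¹) * x * (β * α * β⁻¹)⁻¹ = β * (α * (β⁻¹ * x * β) * α⁻¹) * β⁻¹ := by group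
        _ = β * (α * v * x * α⁻¹) * β⁻¹ := by rw [h1]; group
        _ = β * (v * (α * x * α⁻¹)) * β⁻¹ := by rw [hVcent v hvV α hα]; group
        _ = β * (v * s * x) * β⁻¹ := by rw [hx1]; group
        _ = β * (s * (v * x)) * β⁻¹ := by rw [h.ab v (hVU hvV) s hsU]; group
        _ = β * (s * (β⁻¹ * x * β)) * β⁻¹ := by rw [h1]
        _ = (β * s * β⁻¹) * x := by group
    have hEs : (β * α * β⁻¹) * s⁻¹ * (β * α * β⁻¹)⁻¹ = s⁻¹ := by
      have h1 := hE s hsU hscent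
      have h2 : (β * α * β⁻¹) * s * (β * α * β⁻¹)⁻¹ = s := by rw [h1]; group
      calc (β * α * β⁻¹) * s⁻¹ * (β * α * β⁻¹)⁻¹ = ((β * α * β⁻¹) * s * (β * α * β⁻¹)⁻¹)⁻¹ := by group
        _ = s⁻¹ := by rw [h2]
    have hβsU : β * s * β⁻¹ ∈ U := conj_mem_UU (mem_sup_left hβL) hsU
    have hγx : γ * x * γ⁻¹ * x⁻¹ = β * s * β⁻¹ * s⁻¹ := by
      calc γ * x * γ⁻¹ * x⁻¹ = (β * α * β⁻¹) * (α⁻¹ * x * α) * (β * α * β⁻¹)⁻¹ * x⁻¹ := by rw [hγ]; group
        _ = ((β * α * β⁻¹) * s⁻¹ * (β * α * β⁻¹)⁻¹) * ((β * α * β⁻¹) * x * (β * α * β⁻¹)⁻¹) * x⁻¹ := by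
          rw [hx2]; group
        _ = s⁻¹ * ((β * s * β⁻¹) * x) * x⁻¹ := by rw [hEs, hx3]
        _ = s⁻¹ * (β * s * β⁻¹) := by group
        _ = β * s * β⁻¹ * s⁻¹ := h.ab _ (inv_mem hsU) _ hβsU
    -- `γ ∈ C_B(V)`
    have hB₀ : ∀ l ∈ L, ∀ b ∈ B ⊓ centralizer (V : Set G), l * b * l⁻¹ ∈ B ⊓ centralizer (V : Set G) :=
      fun l hl b hb => (mem_normalizer_iff.1 (h.nC hl) b).1 hb
    have hα₀ : α ∈ B ⊓ centralizer (V : Set G) := ⟨hAsB hα, hAsV hα⟩
    have hγ₀ : γ ∈ B ⊓ centralizer (V : Set G) := mul_mem (hB₀ β hβL α hα₀) (inv_mem hα₀)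
    set γ' := g * γ * g⁻¹ with hγ'
    have hγ'₀ : γ' ∈ B ⊓ centralizer (V : Set G) := hB₀ g hg γ hγ₀
    have hγ'x : γ' * (g * x * g⁻¹) * γ'⁻¹ * (g * x * g⁻¹)⁻¹ = t := by
      calc γ' * (g * x * g⁻¹) * γ'⁻¹ * (g * x * g⁻¹)⁻¹ = g * (γ * x * γ⁻¹ * x⁻¹) * g⁻¹ := by rw [hγ']; group
        _ = g * (g⁻¹ * t * g) * g⁻¹ := by rw [hγx, hβs]
        _ = t := by group
    have hγ'z : ∀ z ∈ U, (∀ a ∈ As, a * z = z * a) → γ' * z = z * γ' := by
      intro z hz hza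
      have hz' : g⁻¹ * z * g ∈ U := by
        have h1 := conj_mem_UU (ρ := ρ) (mem_sup_left (T := R) (inv_mem hg)) hz
        rwa [inv_inv] at h1
      have h1 : ∀ a ∈ As, a * (g⁻¹ * z * g) = (g⁻¹ * z * g) * a := by
        intro a ha
        have e : g⁻¹ * z * g = (g⁻¹ * z * g * z⁻¹) * z := by group
        rw [e, ← mul_assoc, hVcent _ (hgV' z hz) a ha, mul_assoc, hza a ha]; group
      have h2 := hγz _ hz' h1
      have h3 := congrArg (fun w => g * w * g⁻¹) h2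
      have e1 : g * (γ * (g⁻¹ * z * g)) * g⁻¹ = γ' * z := by rw [hγ']; group
      have e2 : g * ((g⁻¹ * z * g) * γ) * g⁻¹ = z * γ' := by rw [hγ']; group
      rw [← e1, ← e2]
      exact h3
    -- `δ`
    have hδB : y⁻¹ * γ' * y ∈ B := by
      have h1 := (mem_normalizer_iff.1 (h.nB (inv_mem hy)) γ').1 hγ'₀.1
      rwa [inv_inv] at h1
    have hx0U : y⁻¹ * (g * x * g⁻¹) * y ∈ U := hyUm _ (hgU x hx)
    obtain ⟨v, hv, c, hcU, hcA, hx0⟩ := hr.dec _ hx0U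
    have hyc : y * c * y⁻¹ ∈ U := conj_mem_UU (mem_sup_right hy) hcU
    have hyca : ∀ a ∈ As, a * (y * c * y⁻¹) = (y * c * y⁻¹) * a := by
      intro a ha
      have ha' : y⁻¹ * a * y ∈ A := mem_cj.1 ha
      have h1 := mem_centralizer_iff.1 hcA _ ha'
      have h2 := congrArg (fun w => y * w * y⁻¹) h1
      have e1 : y * (y⁻¹ * a * y * c) * y⁻¹ = a * (y * c * y⁻¹) := by group
      have e2 : y * (c * (y⁻¹ * a * y)) * y⁻¹ = (y * c * y⁻¹) * a := by group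
      rw [← e1, ← e2]
      exact h2
    have hδc : (y⁻¹ * γ' * y) * c * (y⁻¹ * γ' * y)⁻¹ = c := by
      have h1 := hγ'z _ hyc hyca
      calc (y⁻¹ * γ' * y) * c * (y⁻¹ * γ' * y)⁻¹ = y⁻¹ * (γ' * (y * c * y⁻¹)) * γ'⁻¹ * y := by group
        _ = c := by rw [h1]; group
    have hfin : (y⁻¹ * γ' * y) * v * (y⁻¹ * γ' * y)⁻¹ * v⁻¹ = t' := by
      calc (y⁻¹ * γ' * y) * v * (y⁻¹ * γ' * y)⁻¹ * v⁻¹
          = (y⁻¹ * γ' * y) * (v * c) * (y⁻¹ * γ' * y)⁻¹ * ((y⁻¹ * γ' * y) * c * (y⁻¹ * γ' * y)⁻¹)⁻¹ * v⁻¹ := by group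
        _ = (y⁻¹ * γ' * y) * (v * c) * (y⁻¹ * γ' * y)⁻¹ * (v * c)⁻¹ := by rw [hδc]; group
        _ = y⁻¹ * (γ' * (g * x * g⁻¹) * γ'⁻¹ * (g * x * g⁻¹)⁻¹) * y := by rw [← hx0]; group
        _ = t' := by rw [hγ'x, ht]; group
    rw [← hfin]
    exact h.vb _ hδB v hv
  have h1 : cj y⁻¹ ρ = ρ := Subgroup.eq_of_le_of_card_ge key (card_cj y⁻¹ ρ).ge
  conv_lhs => rw [← h1]
  exact cj_cj_inv y ρ

/-! ### the end -/

/-- a 2-group acting on a 2-group `≠ 1` -/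
theorem exists_fix {S E : Subgroup G} (hS : IsPGroup 2 S) (hE : IsPGroup 2 E) (hne : E ≠ ⊥)
    (hn : S ≤ normalizer (E : Set G)) : ∃ w ∈ E, w ≠ 1 ∧ ∀ s ∈ S, s * w = w * s := by
  let _ : MulAction S E :=
    { smul := fun s e => ⟨(s : G) * e * (s : G)⁻¹, (mem_normalizer_iff.1 (hn s.2) e).1 e.2⟩
      one_smul := fun e => Subtype.ext (by
        show (1 : G) * (e : G) * (1 : G)⁻¹ = e
        group)
      mul_smul := fun s t e => Subtype.ext (by
        show ((s : G) * t) * (e : G) * ((s : G) * t)⁻¹ = s * (t * (e : G) * (t : G)⁻¹) * (s : G)⁻¹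
        group) }
  have hd : 2 ∣ Nat.card E := by
    obtain ⟨n, hn'⟩ := IsPGroup.iff_card.1 hE
    rw [hn']
    refine dvd_pow_self 2 ?_
    rintro rfl
    rw [pow_zero] at hn'
    exact hne (Subgroup.eq_bot_of_card_eq E hn')
  have h1 : (1 : E) ∈ MulAction.fixedPoints S E := by
    intro s
    apply Subtype.ext
    show (s : G) * (1 : G) * (s : G)⁻¹ = 1
    group
  obtain ⟨b, hb, hb1⟩ := hS.exists_fixed_point_of_prime_dvd_card_of_fixed_point E hd h1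
  refine ⟨b, b.2, fun h2 => hb1 (Subtype.ext h2.symm), fun s hs => ?_⟩
  have h2 := congrArg Subtype.val (hb ⟨s, hs⟩)
  have h3 : s * (b : G) * s⁻¹ = b := h2
  calc s * (b : G) = (s * b * s⁻¹) * s := by group
    _ = b * s := by rw [h3]

/-- the join of the `R`-conjugates of `ρ` different from `ρ^y` -/
def Ey (R ρ : Subgroup G) (y : G) : Subgroup G := sSup {σ | (∃ r ∈ R, σ = cj r ρ) ∧ σ ≠ cj y ρ}

theorem cj_Ey_le {R ρ : Subgroup G} {r y : G} (hr : r ∈ R) : cj r (Ey R ρ y) ≤ Ey R ρ (r * y) := by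
  rw [cj_le_iff]
  refine sSup_le ?_
  rintro σ ⟨⟨k, hk, rfl⟩, hne⟩
  rw [← cj_le_iff]
  refine le_sSup ⟨⟨r * k, mul_mem hr hk, cj_cj r k ρ⟩, fun h1 => hne ?_⟩
  rw [← cj_cj] at h1
  have h2 := congrArg (cj r⁻¹) h1
  rwa [cj_inv_cj, cj_inv_cj] at h2

/-- direct product: nothing is in all `Ey` -/
theorem eq_one_of_mem_Ey {R ρ : Subgroup G} (hab : ∀ r ∈ R, ∀ r' ∈ R, ∀ a ∈ cj r ρ, ∀ b ∈ cj r' ρ, a * b = b * a)
    (hdis : ∀ y ∈ R, cj y ρ ⊓ Ey R ρ y = ⊥) (T : Finset (Subgroup G)) (hT : ∀ σ ∈ T, ∃ r ∈ R, σ = cj r ρ) {w : G}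
    (hw : ∀ y ∈ R, w ∈ Ey R ρ y) (hwT : w ∈ T.sup id) : w = 1 := by
  classical
  induction T using Finset.induction_on generalizing w with
  | empty =>
    rw [Finset.sup_empty] at hwT
    exact mem_bot.1 hwT
  | insert σ T hσ ih =>
    obtain ⟨y, hy, rfl⟩ := hT σ (Finset.mem_insert_self _ _)
    have hT' : ∀ τ ∈ T, ∃ r ∈ R, τ = cj r ρ := fun τ hτ => hT τ (Finset.mem_insert_of_mem hτ)
    rw [Finset.sup_insert, id_eq] at hwT
    have hn : T.sup id ≤ normalizer (cj y ρ : Set G) := by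
      refine (show T.sup id ≤ centralizer (cj y ρ : Set G) from ?_).trans (centralizer_le_normalizer _)
      refine Finset.sup_le fun τ hτ => ?_
      obtain ⟨r, hr, rfl⟩ := hT' τ hτ
      intro b hb
      exact mem_cent_of fun a ha => hab y hy r hr a ha b hb
    rw [← SetLike.mem_coe, coe_mul_of_right_le_normalizer_left _ _ hn] at hwT
    obtain ⟨a, ha, b, hb, hab'⟩ := hwT
    have hTE : T.sup id ≤ Ey R ρ y := Finset.sup_le fun τ hτ => by
      refine le_sSup ⟨hT' τ hτ, fun h1 => hσ ?_⟩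
      rw [← h1]
      exact hτ
    have ha1 : a ∈ Ey R ρ y := by
      have e : a = w * b⁻¹ := by rw [← hab']; simp
      rw [e]
      exact mul_mem (hw y hy) (inv_mem (hTE hb))
    have ha2 : a = 1 := by
      have h1 : a ∈ cj y ρ ⊓ Ey R ρ y := ⟨ha, ha1⟩
      rw [hdis y hy] at h1
      exact mem_bot.1 h1
    have hwb : w = b := by rw [← hab', ha2]; simp
    exact ih hT' hw (hwb ▸ hb)

/-- **THEOREM PL**: `ρ^R = ρ^S` -/
theorem Fr.lines (h : Fr B L R V ρ) {S : Subgroup G} (hSR : S ≤ R) (hS : IsPGroup 2 S) (hρ : IsPGroup 2 ρ)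
    (hfix : ∀ w ∈ (⨆ r : R, cj (r : G) ρ : Subgroup G), (∀ s ∈ S, s * w = w * s) → ∀ r ∈ R, r * w = w * r) :
    ∀ r ∈ R, ∃ s ∈ S, cj r ρ = cj s ρ := by
  obtain ⟨A, hAB, hA, hAV⟩ := h.exists_active
  have hrt := h.cut hA hAB hAV
  obtain ⟨p, hp, hp1⟩ := h.mv
  have hUr : ∀ r ∈ R, cj r ρ ≤ UU L R ρ := fun r hr => cj_le_UU (mem_sup_right hr)
  have hab : ∀ r ∈ R, ∀ r' ∈ R, ∀ a ∈ cj r ρ, ∀ b ∈ cj r' ρ, a * b = b * a :=
    fun r hr r' hr' a ha b hb => h.ab a (hUr r hr ha) b (hUr r' hr' hb)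
  -- the group centralised by `A` and `A^p`
  set N := A ⊔ cj p A with hN
  have hrN : ∀ y ∈ R, cj y ρ ≠ ρ → cj y ρ ≤ centralizer (N : Set G) := by
    intro y hy hne
    have h1 := h.rl hA hAB hAV hy hne (one_mem L)
    rw [cj_one] at h1
    have h2 := h.rl hA hAB hAV hy hne hp
    exact comm_symm (sup_le (comm_symm h1) (comm_symm h2))
  have hd1 : ρ ⊓ centralizer (N : Set G) = ⊥ := by
    rw [eq_bot_iff, ← hp1]
    intro z hz'
    obtain ⟨hz, hzN⟩ := mem_inf.1 hz'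
    refine mem_inf.2 ⟨hz, ?_⟩
    rw [mem_cj]
    have hzV : p⁻¹ * z * p ∈ V := by
      have h1 := (mem_normalizer_iff.1 (h.nV (inv_mem hp)) z).1 (h.rV hz)
      rwa [inv_inv] at h1
    refine hrt.inV _ hzV ?_
    have h1 : z ∈ centralizer (cj p A : Set G) := centralizer_le (le_sup_right : cj p A ≤ N) hzN
    rw [← cj_centralizer] at h1
    exact mem_cj.1 h1
  have hE1 : Ey R ρ 1 ≤ centralizer (N : Set G) := by
    refine sSup_le ?_
    rintro σ ⟨⟨k, hk, rfl⟩, hne⟩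
    rw [cj_one] at hne
    exact hrN k hk hne
  have hdis : ∀ y ∈ R, cj y ρ ⊓ Ey R ρ y = ⊥ := by
    intro y hy
    have h1 : cj y⁻¹ (Ey R ρ y) ≤ Ey R ρ 1 := by
      have h2 := cj_Ey_le (ρ := ρ) (y := y) (inv_mem hy)
      rwa [inv_mul_cancel] at h2
    have h2 : Ey R ρ y ≤ cj y (centralizer (N : Set G)) := by
      have h3 := h1.trans hE1
      rwa [cj_le_iff, inv_inv] at h3
    rw [eq_bot_iff]
    calc cj y ρ ⊓ Ey R ρ y ≤ cj y ρ ⊓ cj y (centralizer (N : Set G)) := inf_le_inf_left _ h2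
      _ = cj y (ρ ⊓ centralizer (N : Set G)) := (cj_inf y _ _).symm
      _ = ⊥ := by rw [hd1]; exact Subgroup.map_bot _
      _ ≤ ⊥ := le_rfl
  by_contra hcon
  push Not at hcon
  obtain ⟨r₀, hr₀, hr₀S⟩ := hcon
  set X : Set (Subgroup G) := {σ | (∃ r ∈ R, σ = cj r ρ) ∧ ∀ s ∈ S, σ ≠ cj s ρ} with hX
  set E' : Subgroup G := sSup X with hE'
  have hρne : ρ ≠ ⊥ := by
    intro h0
    apply hAV
    have h1 := h.card
    rw [h0, card_bot, mul_one] at h1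
    rw [Subgroup.eq_bot_of_card_eq V h1]
    intro a _
    rw [mem_centralizer_iff]
    intro x hx
    have : x = 1 := mem_bot.1 hx
    rw [this, one_mul, mul_one]
  have hE'ne : E' ≠ ⊥ := by
    intro h0
    have h1 : cj r₀ ρ ≤ E' := le_sSup ⟨⟨r₀, hr₀, rfl⟩, hr₀S⟩
    rw [h0, le_bot_iff] at h1
    apply hρne
    have h2 := card_cj r₀ ρ
    rw [h1, card_bot] at h2
    exact Subgroup.eq_bot_of_card_eq ρ h2.symm
  have hSE : S ≤ normalizer (E' : Set G) := by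
    intro s hs
    refine mem_normalizer_of_cj_le ?_
    rw [cj_le_iff]
    refine sSup_le ?_
    rintro σ ⟨⟨k, hk, rfl⟩, hne⟩
    rw [← cj_le_iff]
    refine le_sSup ⟨⟨s * k, mul_mem (hSR hs) hk, cj_cj s k ρ⟩, fun t ht h1 => ?_⟩
    apply hne (s⁻¹ * t) (mul_mem (inv_mem hs) ht)
    have h2 := congrArg (cj s⁻¹) h1
    rwa [cj_inv_cj, cj_cj] at h2
  have hE'le : E' ≤ (⨆ r : R, cj (r : G) ρ : Subgroup G) := by
    refine sSup_le ?_
    rintro σ ⟨⟨k, hk, rfl⟩, -⟩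
    exact le_iSup (fun r : R => cj (r : G) ρ) ⟨k, hk⟩
  -- `E'` is a 2-group
  have hE'2 : IsPGroup 2 E' := by
    have key : ∀ T : Finset (Subgroup G), (∀ σ ∈ T, ∃ r ∈ R, σ = cj r ρ) → IsPGroup 2 (T.sup id : Subgroup G) := by
      classical
      intro T
      induction T using Finset.induction_on with
      | empty =>
        intro _
        rw [Finset.sup_empty]
        exact IsPGroup.of_bot
      | insert σ T _ ih =>
        intro hT
        obtain ⟨y, hy, rfl⟩ := hT σ (Finset.mem_insert_self _ _)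
        have hT' : ∀ τ ∈ T, ∃ r ∈ R, τ = cj r ρ := fun τ hτ => hT τ (Finset.mem_insert_of_mem hτ)
        rw [Finset.sup_insert, id_eq]
        have hn : T.sup id ≤ normalizer (cj y ρ : Set G) := by
          refine (show T.sup id ≤ centralizer (cj y ρ : Set G) from ?_).trans (centralizer_le_normalizer _)
          refine Finset.sup_le fun τ hτ => ?_
          obtain ⟨r, hr, rfl⟩ := hT' τ hτ
          intro b hb
          exact mem_cent_of fun a ha => hab y hy r hr a ha b hb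
        exact IsPGroup.to_sup_of_normal_left' (ChoiceBase.isPGroup_cj y hρ) (ih hT') hn
    have h1 := key X.toFinite.toFinset fun σ hσ => ((Set.Finite.mem_toFinset _).1 hσ).1
    refine h1.to_le ?_
    exact sSup_le fun σ hσ => Finset.le_sup (f := id) ((Set.Finite.mem_toFinset _).2 hσ)
  obtain ⟨w, hw, hw1, hwS⟩ := exists_fix hS hE'2 hE'ne hSE
  have hwR := hfix w (hE'le hw) hwS
  have hwE1 : w ∈ Ey R ρ 1 := by
    have h1 : E' ≤ Ey R ρ 1 := sSup_le fun σ hσ => le_sSup ⟨hσ.1, hσ.2 1 (one_mem _)⟩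
    exact h1 hw
  have hwE : ∀ y ∈ R, w ∈ Ey R ρ y := by
    intro y hy
    have h1 := cj_Ey_le (ρ := ρ) (y := 1) hy
    rw [mul_one] at h1
    apply h1
    rw [mem_cj]
    have e : y⁻¹ * w * y = w := by
      rw [mul_assoc, ← hwR y hy]; group
    rwa [e]
  refine hw1 (eq_one_of_mem_Ey hab hdis X.toFinite.toFinset (fun σ hσ => ((Set.Finite.mem_toFinset _).1 hσ).1) hwE ?_)
  exact (sSup_le fun σ hσ => Finset.le_sup (f := id) ((Set.Finite.mem_toFinset _).2 hσ) : E' ≤ _) hw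

end

end Cfsg.Agent.Omega.GI.PL
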